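import Cfsg.Agent.Lib.HeUniq.Fus.Pattern
import Cfsg.Agent.Lib.HeUniq.Excl.Union
import Cfsg.Agent.Lib.HeUniq.Excl.Geometry
import Cfsg.Agent.Lib.HeUniq.Local.Glue
import Cfsg.Agent.Lib.HeUniq.Rel.Main
import Cfsg.Agent.Lib.HeUniq.Cent.Main
import Cfsg.Agent.Lib.AlperinRankTwo.Simple

/-!
The assembly of the uniqueness of the Held group: the fusion pattern is that of the Held group, and the two
normalisers of elementary groups of order 64 give the presented group.
-/

set_option autoImplicit false

namespace Cfsg.Agent.HeUniq.Assembly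

open Cfsg.Agent.HeUniq.Model Cfsg.Agent.HeUniq.Fus Subgroup

variable {G : Type*} [Group G] [Finite G] [IsSimpleGroup G] {t : G}

theorem not_comm (ht : orderOf t = 2) (hG : Nat.card G = 4030387200) : ¬ IsMulCommutative G := by
  intro h
  have hn : (zpowers t).Normal := ⟨fun n hn g => by
    rw [h.is_comm.comm g n, mul_assoc, mul_inv_cancel, mul_one]; exact hn⟩
  rcases hn.eq_bot_or_eq_top with e | e
  · rw [zpowers_eq_bot] at e
    rw [e, orderOf_one] at ht
    omega
  · have := Nat.card_zpowers t
    rw [e, card_top, hG, ht] at this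
    omega

/-- the class of `t` meets its centraliser outside `t` -/
theorem mask_ne (F : Frame G t) (ht : orderOf t = 2) (hG : Nat.card G = 4030387200) : mask F ≠ 32 := by
  intro hm
  refine AlperinRankTwo.no_isolated (not_comm ht hG) t ⟨ht, fun g hg => ?_⟩
  obtain ⟨a, ha, he⟩ := F.surj _ hg.eq.symm
  have hx : IsConj t (F.f a) := isConj_iff.2 ⟨g, he.symm⟩
  have htt : t * t = 1 := by rw [← pow_two, ← ht, pow_orderOf_eq_one]
  have h2 : F.f a * F.f a = 1 := by
    rw [he, show g * t * g⁻¹ * (g * t * g⁻¹) = g * (t * t) * g⁻¹ by group, htt, mul_one, mul_inv_cancel]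
  have hne : a ≠ oneC := fun e => by
    rw [e, F.one] at he
    rw [conj_eq_one_iff.1 he.symm, orderOf_one] at ht
    omega
  have hc := cls_lt ha (F.inj (ha.mul ha) inC_one (by rw [F.mul ha ha, h2, F.one])) hne
  have hb := (conj_iff F hc).1 hx
  have h32 : ∀ k < 8, (32 : ℕ).testBit k = true → k = 5 := by decide
  obtain ⟨k, hk, hkk⟩ := to_rep F hc
  rw [h32 _ hc (hm ▸ hb), repz, F.fz, mul_inv_eq_iff_eq_mul] at hkk
  rw [← he]
  rw [← hk] at hkk
  exact mul_left_cancel hkk

/-- the fusion pattern of the Held group -/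
theorem mask_eq (F : Frame G t) (ht : orderOf t = 2) (hG : Nat.card G = 4030387200) :
    mask F = 123 ∧ mask F.twist = 123 := by
  have key : ∀ F : Frame G t, mask F = 123 := by
    intro F
    have hl := mask_cases F
    have hl' := mask_cases F.twist
    have h32 := mask_ne F ht hG
    have h113 := Excl.no_113 F hG
    obtain ⟨h96, h115⟩ := Excl.no_mod16 F hG
    obtain ⟨k96, k115⟩ := Excl.no_mod16 F.twist hG
    have tw : ∀ m m' : ℕ, mask F = m →
        (∀ j < 8, m'.testBit j = m.testBit (([0, 3, 2, 1, 6, 5, 4, 7] : List ℕ).getD j 0)) →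
        m' < 256 → mask F.twist = m' := by
      intro m m' e hb hlt
      refine Nat.eq_of_testBit_eq fun j => ?_
      rcases Nat.lt_or_ge j 8 with hj | hj
      · rw [testBit_twist F hj, e, hb j hj]
      · rw [Nat.testBit_lt_two_pow ((mask_lt F.twist).trans_le (Nat.pow_le_pow_right two_pos hj)),
          Nat.testBit_lt_two_pow (hlt.trans_le (Nat.pow_le_pow_right two_pos hj))]
    simp only [List.mem_cons, List.not_mem_nil, or_false] at hl
    rcases hl with h | h | h | h | h | h | h
    · exact absurd h h32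
    · exact absurd (tw _ 96 h (by decide) (by norm_num)) k96
    · exact absurd h h96
    · exact absurd h h113
    · exact absurd h h115
    · exact absurd (tw _ 115 h (by decide) (by norm_num)) k115
    · exact h
  exact ⟨key F, key F.twist⟩

/-- from the sides to the Held group -/
theorem isoHe_of_frame (F : Frame G t) (ht : orderOf t = 2) (hG : Nat.card G = 4030387200)
    (side : ∀ F : Frame G t, mask F = 123 → Nonempty (Local.Side F)) : Cfsg.Spor.IsoHe G := by
  obtain ⟨h0, h1⟩ := mask_eq F ht hG
  obtain ⟨S0⟩ := side F h0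
  obtain ⟨S1⟩ := side F.twist h1
  obtain ⟨A⟩ := Glue.amalgam_of_sides S0 S1
  exact Rel.amalgam_isoHe A hG

end Cfsg.Agent.HeUniq.Assembly
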