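import Cfsg.Agent.Lib.HeUniq.Assembly
import Cfsg.Agent.Lib.HeUniq.Local.Exists

/-!
A simple group of the order of the Held group with an involution centraliser of Held type is the presented
Held group.
-/

set_option autoImplicit false

namespace Cfsg.Agent.HeUniq.Final

open Subgroup

universe u

/-- the uniqueness of the Held group -/
theorem isoHe {G : Type u} [Group G] [Finite G] [IsSimpleGroup G] (t : G) (ht : orderOf t = 2)
    (Q : Subgroup (centralizer ({t} : Set G))) [Q.Normal] (hQ : Cfsg.IsExtraspecial 2 Q)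
    (hcard : Nat.card Q = 2 ^ 7)
    (h2c : centralizer (Q : Set (centralizer ({t} : Set G))) ≤ Q)
    (e : (centralizer ({t} : Set G)) ⧸ Q ≃* Matrix.SpecialLinearGroup (Fin 3) (ZMod 2))
    (hG : Nat.card G = 4030387200) : Cfsg.Spor.IsoHe G := by
  let s : Matrix.SpecialLinearGroup (Fin 5) (ZMod 2) :=
    ⟨Model.sMat, Matrix.det_transvection_of_ne (0 : Fin 5) 4 (by decide) 1⟩
  obtain ⟨f⟩ := HeCent.cent_iso t ht Q hQ hcard h2c e hG s rfl
  obtain ⟨F⟩ := Model.exists_frame t ht s rfl f
  exact Assembly.isoHe_of_frame F ht hG fun F hm => Local.exists_side F hm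

end Cfsg.Agent.HeUniq.Final
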