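import Cfsg.Agent.S1682

/-!
A group isomorphic to the Held group has a subgroup Sp₄(4):2.
-/

set_option autoImplicit false

namespace Cfsg.Agent.HeUniq

/-- A subgroup with a normal subgroup of index two isomorphic to `Sp(4,4)`. -/
theorem exists_sp44_of_isoHe {G : Type*} [Group G] (h : Cfsg.Spor.IsoHe G) :
    ∃ (H : Subgroup G) (N : Subgroup H) (K : Type) (_ : Field K) (_ : Fintype K),
      N.Normal ∧ N.index = 2 ∧ Fintype.card K = 4 ∧ Nonempty (N ≃* Matrix.symplecticGroup (Fin 2) K) := by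
  obtain ⟨e⟩ := h
  obtain ⟨N, K, iF, iK, hN, hidx, hK, ⟨f⟩⟩ := Cfsg.Agent.S1682.result
  let m := e.symm.subgroupMap (Subgroup.map (PresentedGroup.mk
      (Cfsg.Spor.coxRelators Cfsg.Spor.He.edges ∪ {r | r ∈ Cfsg.Spor.He.extra}))
    (Subgroup.closure ({Cfsg.Spor.He.a, Cfsg.Spor.He.c, Cfsg.Spor.He.d, Cfsg.Spor.He.e, Cfsg.Spor.He.f,
      (Cfsg.Spor.He.a * Cfsg.Spor.He.b) ^ 2,
      (Cfsg.Spor.He.b * Cfsg.Spor.He.c * Cfsg.Spor.He.d * Cfsg.Spor.He.e) ^ 7} :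
        Set (FreeGroup Cfsg.Spor.He.Gen))))
  refine ⟨_, N.map m.toMonoidHom, K, iF, iK, Subgroup.Normal.map hN _ m.surjective, ?_, hK,
    ⟨(m.subgroupMap N).symm.trans f⟩⟩
  exact (Subgroup.index_map_of_bijective (f := m.toMonoidHom) m.bijective N).trans hidx

end Cfsg.Agent.HeUniq
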